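import Cfsg.Agent.H39.Bs.Split
import Cfsg.Agent.H160.QSpin
import Cfsg.Agent.H749.BlockOrth

/-!
# S5733, BS08 (helper39): counting the good elements, the spinor norm on the split torus

* `card_le_gd` : almost all units are good;
* `num_b`, `num_c` : numerical estimates;
* `xt_notMem_E` : the elements `xt t`, `t` not a square, are not in `E`.
-/

set_option autoImplicit false
set_option linter.unusedSectionVars false

namespace Cfsg.Agent.H39.Bs

open QuadraticMap Module
open Cfsg.Agent.LieClassical.OrthCore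
open Cfsg.Agent.H847.Bs
open Cfsg.Agent.H46.Bs (card_nongen_le card_pow_eq_one_le exists_root_of_invol)

section Count

variable (F K : Type*) [Field F] [Field K] [Algebra F K] [Finite K]

theorem sum_bound {q : ℕ} (hq : 2 ≤ q) (m : ℕ) : ∑ e ∈ Finset.Icc 1 m, (q ^ e - 1) + 1 ≤ 2 * q ^ m := by
  induction m with
  | zero => simp
  | succ m ih =>
    rw [Finset.sum_Icc_succ_top (by omega)]
    have h1 : 2 * q ^ m ≤ q ^ (m + 1) := by
      rw [pow_succ, mul_comm]
      exact Nat.mul_le_mul_left _ hq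
    have h2 : 1 ≤ q ^ (m + 1) := Nat.one_le_pow _ _ (by omega)
    omega

/-- almost all units are good -/
theorem card_le_gd : ∃ y : ℕ, y ^ 2 ≤ Nat.card K ∧ ∀ P : Kˣ → Prop,
    Nat.card {t : Kˣ // P t} ≤ Nat.card {t : Kˣ // Gd F t ∧ P t} + (3 * y + 2) := by
  classical
  have hF : Finite F := Finite.of_injective _ (algebraMap F K).injective
  have hfd : Module.Finite F K := Module.Finite.of_finite
  have : Fintype Kˣ := Fintype.ofFinite _
  obtain ⟨s, hs, hs'⟩ := exists_root_of_invol K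
  set m := finrank F K / 2 with hm
  set q := Nat.card F with hq
  have hq2 : 2 ≤ q := Finite.one_lt_card
  refine ⟨max (q ^ m) s, ?_, fun P => ?_⟩
  · rcases le_total (q ^ m) s with h | h
    · rw [max_eq_right h]; exact hs
    · rw [max_eq_left h, ← pow_mul, Module.natCard_eq_pow_finrank (K := F)]
      exact Nat.pow_le_pow_right (by omega) (by omega)
  · have h1 : Nat.card {t : Kˣ // P t} ≤ Nat.card {t : Kˣ // Gd F t ∧ P t} +
        (Nat.card {t : Kˣ // Algebra.adjoin F {(t : K)} ≠ ⊤} + (Nat.card {t : Kˣ // t ^ 2 = 1} +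
          Nat.card {t : Kˣ // t ^ (s + 1) = 1})) := by
      simp only [Nat.card_eq_fintype_card, Fintype.card_subtype]
      refine le_trans ?_ ((Finset.card_union_le _ _).trans (Nat.add_le_add_left ((Finset.card_union_le _ _).trans
        (Nat.add_le_add_left (Finset.card_union_le _ _) _)) _))
      apply Finset.card_le_card
      intro t ht
      rw [Finset.mem_filter] at ht
      simp only [Finset.mem_union, Finset.mem_filter, Finset.mem_univ, true_and]
      by_cases h : Algebra.adjoin F {(t : K)} = ⊤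
      · by_cases h3 : ∀ σ : K ≃ₐ[F] K, σ t ≠ (t : K)⁻¹
        · exact Or.inl ⟨⟨h, h3⟩, ht.2⟩
        · push Not at h3
          obtain ⟨σ, hσ⟩ := h3
          right; right
          apply hs' (σ : K →+* K) ?_ t hσ
          have h4 : ((σ : K →ₐ[F] K).comp (σ : K →ₐ[F] K)) = AlgHom.id F K := by
            apply AlgHom.ext_of_adjoin_eq_top h
            intro z hz
            rw [Set.mem_singleton_iff] at hz
            rw [hz]
            show σ (σ t) = t
            rw [hσ, map_inv₀, hσ, inv_inv]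
          intro x
          exact congrArg (fun g : K →ₐ[F] K => g x) h4
      · exact Or.inr (Or.inl h)
    refine h1.trans (Nat.add_le_add_left ?_ _)
    have h2 := card_nongen_le F K
    have h3 := card_pow_eq_one_le K 2 (by norm_num)
    have h4 := card_pow_eq_one_le K (s + 1) (by omega)
    have h5 := sum_bound hq2 m
    rw [← hm, ← hq] at h2
    have h6 : q ^ m ≤ max (q ^ m) s := le_max_left _ _
    have h7 : s ≤ max (q ^ m) s := le_max_right _ _
    omega

/-- numerical estimate for (b) -/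
theorem num_b {q j y S : ℕ} (hq : 2 ≤ q) (hj : 1 ≤ j) (hS : S = q ^ j) (hy : y ^ 2 ≤ S) :
    ((3 * y + 2 : ℕ) : ℝ) ≤ 16 * (4 / 5 : ℝ) ^ j * ((S : ℝ) - 1) := by
  set r : ℝ := Real.sqrt S with hr
  have hr2 : r ^ 2 = S := Real.sq_sqrt (Nat.cast_nonneg _)
  have hr0 : 0 ≤ r := Real.sqrt_nonneg _
  have hyr : (y : ℝ) ≤ r := by
    apply Real.le_sqrt_of_sq_le
    exact_mod_cast hy
  have h1 : (7 / 5 : ℝ) ^ j ≤ r := by
    apply Real.le_sqrt_of_sq_le
    have h2 : ((7 / 5 : ℝ) ^ 2) ^ j ≤ (q : ℝ) ^ j := by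
      apply pow_le_pow_left₀ (by norm_num)
      have : (2 : ℝ) ≤ q := by exact_mod_cast hq
      linarith
    rw [hS, Nat.cast_pow]
    calc ((7 / 5 : ℝ) ^ j) ^ 2 = ((7 / 5 : ℝ) ^ 2) ^ j := by rw [← pow_mul, ← pow_mul, mul_comm]
      _ ≤ _ := h2
  have h3 : (4 / 5 : ℝ) ^ j * (7 / 5 : ℝ) ^ j = (28 / 25 : ℝ) ^ j := by
    rw [← mul_pow]; norm_num
  have h4 : (28 / 25 : ℝ) ≤ (28 / 25 : ℝ) ^ j := by
    calc (28 / 25 : ℝ) = (28 / 25 : ℝ) ^ 1 := (pow_one _).symm
      _ ≤ _ := pow_le_pow_right₀ (by norm_num) hj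
  have h5 : (4 / 5 : ℝ) ^ j ≤ 4 / 5 := by
    calc (4 / 5 : ℝ) ^ j ≤ (4 / 5 : ℝ) ^ 1 := pow_le_pow_of_le_one (by norm_num) (by norm_num) hj
      _ = _ := pow_one _
  have h6 : (0 : ℝ) < (4 / 5 : ℝ) ^ j := by positivity
  have h7 : 5 ≤ 16 * ((4 / 5 : ℝ) ^ j * (r - 1)) := by
    have h8 : (4 / 5 : ℝ) ^ j * (7 / 5 : ℝ) ^ j ≤ (4 / 5 : ℝ) ^ j * r := mul_le_mul_of_nonneg_left h1 h6.le
    nlinarith
  have h9 : ((3 * y + 2 : ℕ) : ℝ) ≤ 3 * (r + 1) := by
    push_cast
    linarith
  have h10 : 16 * (4 / 5 : ℝ) ^ j * ((S : ℝ) - 1) = 16 * ((4 / 5 : ℝ) ^ j * (r - 1)) * (r + 1) := by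
    rw [← hr2]; ring
  rw [h10]
  refine h9.trans ?_
  apply mul_le_mul_of_nonneg_right _ (by linarith)
  linarith

/-- numerical estimate for (c) -/
theorem num_c {q j y S E : ℕ} (hq : 3 ≤ q) (hj : 8 ≤ j) (hS : S = q ^ j) (hy : y ^ 2 ≤ S)
    (hE : S - 1 ≤ 2 * (E + (3 * y + 2))) : S - 1 ≤ 8 * E := by
  have h1 : 3 ^ 8 ≤ S := by
    rw [hS]
    calc 3 ^ 8 ≤ q ^ 8 := Nat.pow_le_pow_left hq 8
      _ ≤ q ^ j := Nat.pow_le_pow_right (by omega) hj
  have h2 : 24 * y + 19 ≤ 3 * S := by
    by_cases hy81 : y < 81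
    · omega
    · have : 81 * y ≤ y ^ 2 := by nlinarith
      omega
  omega

end Count

section Spin

variable {F K : Type*} [Field F] [Field K] [Algebra F K] [Finite K]

theorem spin_of_mem_E {V : Type*} [AddCommGroup V] [Module F V] [Finite V] (h2 : (2 : F) ≠ 0) {Q : QuadraticForm F V}
    {g : V ≃ₗ[F] V} (hg : g ∈ E Q) : Cfsg.Agent.H160.QSpin.spin Q ⟨g, E_le_O hg⟩ = 1 := by
  have key : ∀ g ∈ Subgroup.closure (siegelSet Q), ∀ hg : g ∈ O Q, Cfsg.Agent.H160.QSpin.spin Q ⟨g, hg⟩ = 1 := by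
    intro g hgc
    induction hgc using Subgroup.closure_induction with
    | mem x hx =>
      intro hxO
      obtain ⟨u, w, hu, hw, rfl⟩ := hx
      obtain ⟨k, hk, hk2⟩ := Cfsg.Agent.H160.QSpin.siegel_eq_sq h2 hu hw
      have h3 : (⟨siegel Q u w hu hw, hxO⟩ : O Q) = ⟨k, hk⟩ * ⟨k, hk⟩ := Subtype.ext hk2
      rw [h3, map_mul, Int.units_mul_self]
    | one =>
      intro h1
      exact map_one _
    | mul x y hx hy ihx ihy =>
      intro hxy
      have hx' : x ∈ O Q := E_le_O hx
      have hy' : y ∈ O Q := E_le_O hy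
      have : (⟨x * y, hxy⟩ : O Q) = ⟨x, hx'⟩ * ⟨y, hy'⟩ := rfl
      rw [this, map_mul, ihx hx', ihy hy', one_mul]
    | inv x hx ihx =>
      intro hxi
      have hx' : x ∈ O Q := E_le_O hx
      have : (⟨x⁻¹, hxi⟩ : O Q) = ⟨x, hx'⟩⁻¹ := rfl
      rw [this, map_inv, ihx hx', inv_one]
  exact key g hg _

theorem odd_card_of (h2 : (2 : F) ≠ 0) : Odd (Nat.card K) := by
  have := Fintype.ofFinite K
  rw [Nat.card_eq_fintype_card, Nat.odd_iff]
  apply FiniteField.odd_card_of_char_ne_two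
  intro h
  apply h2
  have h3 : (2 : K) = 0 := by
    have := ringChar.Nat.cast_ringChar (R := K)
    rw [h] at this
    exact_mod_cast this
  apply (algebraMap F K).injective
  rw [map_zero, ← h3]
  exact map_ofNat _ 2

/-- a generator of a cyclic group of even order acts as an odd permutation -/
theorem sign_mulLeft {C : Type*} [Group C] [Fintype C] [DecidableEq C] {ζ : C} (hζ : ∀ x : C, x ∈ Subgroup.zpowers ζ)
    (he : Even (Fintype.card C)) : Equiv.Perm.sign (Equiv.mulLeft ζ) = -1 := by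
  have hne : ζ ≠ 1 := by
    rintro rfl
    have h1 : Fintype.card C = 1 := by
      rw [Fintype.card_eq_one_iff]
      refine ⟨1, fun x => ?_⟩
      have := hζ x
      rwa [Subgroup.zpowers_one_eq_bot, Subgroup.mem_bot] at this
    rw [h1] at he
    exact absurd he (by decide)
  have hcyc : (Equiv.mulLeft ζ : Equiv.Perm C).IsCycle := by
    refine ⟨1, ?_, ?_⟩
    · simpa using hne
    · intro y _
      obtain ⟨k, hk⟩ := hζ y
      refine ⟨k, ?_⟩
      have h1 : (Equiv.mulLeft ζ : Equiv.Perm C) ^ k = Equiv.mulLeft (ζ ^ k) := by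
        ext x
        have := map_zpow (MulAction.toPermHom C C) ζ k
        have h2 := congrArg (fun g : Equiv.Perm C => g x) this
        exact h2.symm
      rw [h1]
      show ζ ^ k * 1 = y
      rw [mul_one]
      exact hk
  have hsup : (Equiv.mulLeft ζ : Equiv.Perm C).support = Finset.univ := by
    ext x
    simp [Equiv.Perm.mem_support, hne]
  rw [hcyc.sign, hsup, Finset.card_univ, he.neg_one_pow]

/-- the elements of trace one -/
theorem odd_trace_one (h2 : (2 : F) ≠ 0) : Odd (Nat.card {z : K // Algebra.trace F K z = 1}) := by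
  have hF : Finite F := Finite.of_injective _ (algebraMap F K).injective
  have hfd : Module.Finite F K := Module.Finite.of_finite
  obtain ⟨z₀, hz₀⟩ := Algebra.trace_surjective F K 1
  have h1 : Nat.card {z : K // Algebra.trace F K z = 1} = Nat.card (LinearMap.ker (Algebra.trace F K)).toAddSubgroup := by
    apply Nat.card_congr
    exact
      { toFun := fun z => ⟨z.1 - z₀, by
          show Algebra.trace F K (z.1 - z₀) = 0
          rw [map_sub, z.2, hz₀, sub_self]⟩
        invFun := fun z => ⟨z.1 + z₀, by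
          have h3 : Algebra.trace F K z.1 = 0 := z.2
          rw [map_add, h3, hz₀, zero_add]⟩
        left_inv := fun z => Subtype.ext (sub_add_cancel _ _)
        right_inv := fun z => Subtype.ext (add_sub_cancel_right _ _) }
  rw [h1]
  exact Odd.of_dvd_nat (odd_card_of (F := F) (K := K) h2) (AddSubgroup.card_addSubgroup_dvd_card _)

variable (F) in
/-- the torus as a homomorphism to the orthogonal group -/
noncomputable def xtO : Kˣ →* O (qS F K) where
  toFun t := ⟨xt F t, xt_mem_O F t⟩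
  map_one' := by
    apply Subtype.ext
    ext1 x
    show xt F 1 x = x
    rw [xt_apply]
    simp
  map_mul' s t := Subtype.ext (xt_mul F s t)

/-- the quadric `Tr (x y) = 1` -/
noncomputable def quadricEquiv : {v : K × K // qS F K v = 1} ≃ {z : K // Algebra.trace F K z = 1} × Kˣ where
  toFun v := (⟨v.1.1 * v.1.2, v.2⟩, Units.mk0 v.1.1 (by
    intro h
    have h1 := v.2
    rw [qS_apply, h, zero_mul, map_zero] at h1
    exact zero_ne_one h1))
  invFun p := ⟨((p.2 : K), ((p.2⁻¹ : Kˣ) : K) * p.1), by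
    rw [qS_apply, ← mul_assoc, Units.mul_inv, one_mul]
    exact p.1.2⟩
  left_inv v := by
    have hv : v.1.1 ≠ 0 := by
      intro h
      have h1 := v.2
      rw [qS_apply, h, zero_mul, map_zero] at h1
      exact zero_ne_one h1
    apply Subtype.ext
    apply Prod.ext
    · rfl
    · show ((Units.mk0 v.1.1 hv)⁻¹ : Kˣ) * (v.1.1 * v.1.2) = v.1.2
      rw [Units.val_inv_eq_inv_val, Units.val_mk0, inv_mul_cancel_left₀ hv]
  right_inv p := by
    apply Prod.ext
    · apply Subtype.ext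
      show (p.2 : K) * (((p.2⁻¹ : Kˣ) : K) * p.1) = p.1
      rw [← mul_assoc, Units.mul_inv, one_mul]
    · apply Units.ext
      rfl

/-- **the spinor sign of a generator** -/
theorem spin_gen (h2 : (2 : F) ≠ 0) {ζ : Kˣ} (hζ : ∀ x : Kˣ, x ∈ Subgroup.zpowers ζ) :
    Cfsg.Agent.H160.QSpin.spin (qS F K) (xtO F ζ) = -1 := by
  classical
  let _ := Fintype.ofFinite {v : K × K // qS F K v = 1}
  let _ := Fintype.ofFinite {z : K // Algebra.trace F K z = 1}
  let _ := Fintype.ofFinite Kˣ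
  rw [Cfsg.Agent.H160.QSpin.spin_apply]
  have h1 : Cfsg.Agent.H160.QSpin.qperm (qS F K) (xtO F ζ) =
      ((quadricEquiv (F := F) (K := K)).trans (Equiv.prodCongrRight fun _ : {z : K // Algebra.trace F K z = 1} =>
        (Equiv.mulLeft ζ : Equiv.Perm Kˣ))).trans (quadricEquiv (F := F) (K := K)).symm := by
    apply Equiv.ext
    intro v
    rw [Equiv.trans_apply, Equiv.trans_apply, Equiv.eq_symm_apply]
    apply Prod.ext
    · apply Subtype.ext
      show ((ζ : K) * v.1.1) * (((ζ⁻¹ : Kˣ) : K) * v.1.2) = v.1.1 * v.1.2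
      have : (ζ : K) * ((ζ⁻¹ : Kˣ) : K) = 1 := Units.mul_inv ζ
      linear_combination (v.1.1 * v.1.2) * this
    · apply Units.ext
      rfl
  rw [h1, Equiv.Perm.sign_trans_trans_symm, Equiv.Perm.sign_prodCongrRight, Finset.prod_const, Finset.card_univ,
    sign_mulLeft hζ, ← Nat.card_eq_fintype_card]
  · exact (odd_trace_one h2).neg_one_pow
  · rw [← Nat.card_eq_fintype_card, Nat.card_units]
    have := odd_card_of (F := F) (K := K) h2
    obtain ⟨k, hk⟩ := this
    rw [hk]
    simp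

/-- **the elements of the torus which are not squares are not in `E`** -/
theorem xt_notMem_E (h2 : (2 : F) ≠ 0) {t : Kˣ} (ht : ¬ IsSquare t) : xt F t ∉ E (qS F K) := by
  intro hE
  obtain ⟨ζ, hζ⟩ := IsCyclic.exists_generator (α := Kˣ)
  have h1 := spin_of_mem_E h2 hE
  obtain ⟨k, hk⟩ := hζ t
  have hk' : ζ ^ k = t := hk
  rcases Int.even_or_odd k with ⟨m, hm⟩ | hodd
  · apply ht
    exact ⟨ζ ^ m, by rw [← zpow_add, ← hm, hk']⟩
  · have h3 : Cfsg.Agent.H160.QSpin.spin (qS F K) (xtO F t) = -1 := by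
      rw [← hk', map_zpow, map_zpow, spin_gen h2 hζ]
      exact hodd.neg_one_zpow
    have h4 : (⟨xt F t, E_le_O hE⟩ : O (qS F K)) = xtO F t := rfl
    rw [h4, h3] at h1
    exact absurd h1 (by decide)

end Spin

end Cfsg.Agent.H39.Bs
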