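import Mathlib
import Cfsg.Agent.H182.Classify
import Cfsg.Agent.H932.TypeClass

/-!
# S5733, BS08 (helper39): the norm form of a quadratic extension and its trace form (minus type)

* `qN K L` : the norm form of a quadratic extension `L / K` of finite fields, a quadratic form over `K`;
* `sg_qN` : it has sign `-1`;
* `not_pl_of_sg` : a form of sign `-1` is not of plus type.
-/

set_option autoImplicit false

namespace Cfsg.Agent.H39.Bs

open QuadraticMap Module
open Cfsg.Agent.LieClassical.OrthCore Cfsg.Agent.LieClassical.OrthForms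
open Cfsg.Agent.H403.Classify Cfsg.Agent.H182.Sign

section Norm

variable {K L : Type*} [Field K] [Field L] [Finite L] [Algebra K L]

theorem fin_base (K L : Type*) [Field K] [Field L] [Finite L] [Algebra K L] : Finite K :=
  Finite.of_injective _ (algebraMap K L).injective

theorem add_pow_card (x y : L) : (x + y) ^ Nat.card K = x ^ Nat.card K + y ^ Nat.card K := by
  have := fin_base K L
  have := Fintype.ofFinite K
  have h := map_add (FiniteField.frobeniusAlgEquivOfAlgebraic K L) x y
  simp only [FiniteField.coe_frobeniusAlgEquivOfAlgebraic] at h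
  rw [Nat.card_eq_fintype_card]
  exact h

omit [Finite L] in
theorem algebraMap_pow_card (c : K) [Finite K] : (algebraMap K L c) ^ Nat.card K = algebraMap K L c := by
  have := Fintype.ofFinite K
  rw [← map_pow, Nat.card_eq_fintype_card, FiniteField.pow_card]

variable (h2 : finrank K L = 2)

include h2

theorem norm_two (x : L) : algebraMap K L (Algebra.norm K x) = x * x ^ Nat.card K := by
  rw [FiniteField.algebraMap_norm_eq_prod_pow, h2, Finset.prod_range_succ, Finset.prod_range_one, pow_zero,
    pow_one, pow_one]

theorem trace_two (x : L) : algebraMap K L (Algebra.trace K L x) = x + x ^ Nat.card K := by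
  rw [FiniteField.algebraMap_trace_eq_sum_pow, h2, Finset.sum_range_succ, Finset.sum_range_one, pow_zero,
    pow_one, pow_one]

theorem pow_card_card (x : L) : (x ^ Nat.card K) ^ Nat.card K = x := by
  have := fin_base K L
  have := Fintype.ofFinite L
  have h3 : Nat.card L = Nat.card K ^ 2 := by rw [Module.natCard_eq_pow_finrank (K := K), h2]
  rw [← pow_mul, ← pow_two, ← h3, Nat.card_eq_fintype_card, FiniteField.pow_card]

theorem norm_add (x y : L) : Algebra.norm K (x + y) =
    Algebra.norm K x + Algebra.norm K y + Algebra.trace K L (x * y ^ Nat.card K) := by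
  apply (algebraMap K L).injective
  rw [(algebraMap K L).map_add, (algebraMap K L).map_add, norm_two h2, norm_two h2, norm_two h2, trace_two h2,
    add_pow_card, mul_pow, pow_card_card h2]
  ring

theorem polar_norm (x y : L) : polar (fun z : L => Algebra.norm K z) x y = Algebra.trace K L (x * y ^ Nat.card K) := by
  rw [polar, norm_add h2]
  ring

omit h2 in
/-- the norm form -/
noncomputable def qN (h2 : finrank K L = 2) : QuadraticForm K L :=
  QuadraticMap.ofPolar (fun x => Algebra.norm K x)
    (fun a x => by
      have := fin_base K L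
      rw [Algebra.smul_def, map_mul, Algebra.norm_algebraMap, h2, smul_eq_mul, pow_two])
    (fun x x' y => by rw [polar_norm h2, polar_norm h2, polar_norm h2, add_mul, map_add])
    (fun a x y => by rw [polar_norm h2, polar_norm h2, smul_mul_assoc, map_smul])

theorem qN_apply (x : L) : qN h2 x = Algebra.norm K x := rfl

theorem polar_qN (x y : L) : polar (qN h2) x y = Algebra.trace K L (x * y ^ Nat.card K) := polar_norm h2 x y

theorem nondeg_qN : Nondeg (qN h2) := by
  intro x hx
  have := fin_base K L
  apply (traceForm_nondegenerate K L).1 x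
  intro y
  have h := hx (y ^ Nat.card K)
  rw [polar_qN, pow_card_card h2] at h
  exact h

theorem sg_qN [Finite K] : Sg (qN h2) 1 (-1) := by
  have han : ∀ x : L, x ≠ 0 → qN h2 x ≠ 0 := by
    intro x hx h
    rw [qN_apply] at h
    exact hx (Algebra.norm_eq_zero_iff.1 h)
  obtain ⟨a, b, hab, e, he⟩ := isMinus_of_aniso (qN h2) h2 han
  exact (sg_minusForm 0 hab).congr e he

end Norm

/-- a form of sign `-1` is not of plus type -/
theorem not_pl_of_sg {F V : Type*} [Field F] [Finite F] [AddCommGroup V] [Module F V] [Finite V]
    {Q : QuadraticForm F V} {n : ℕ} (h : Sg Q n (-1)) : ¬ Cfsg.Agent.H932.Pl Q := by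
  intro hpl
  have hpl' : Cfsg.Agent.H932.Pl (plusForm n F) := by
    let ι : (Fin n → F) →ₗ[F] (Fin n ⊕ Fin n → F) :=
      (LinearEquiv.sumArrowLequivProdArrow (Fin n) (Fin n) F F).symm.toLinearMap ∘ₗ LinearMap.inl F _ _
    have hι : Function.Injective ι :=
      (LinearEquiv.sumArrowLequivProdArrow (Fin n) (Fin n) F F).symm.injective.comp LinearMap.inl_injective
    refine ⟨LinearMap.range ι, ?_, ?_⟩
    · rintro _ ⟨w, rfl⟩
      have h1 : ∀ i, ι w (.inr i) = 0 := fun i => rfl
      show (⇑(plusForm n F)) (ι w) = 0
      rw [coe_plusForm, quadFormPlus_apply]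
      simp only [h1, mul_zero, Finset.sum_const_zero]
    · rw [LinearMap.finrank_range_of_inj hι, (sg_plusForm n).dim, Module.finrank_fin_fun]
  obtain ⟨e, he⟩ := Cfsg.Agent.H932.exists_isometry h.nondeg (nondeg_plusForm (F := F) n)
    ⟨n, by rw [h.dim, two_mul]⟩ (by rw [h.dim, (sg_plusForm n).dim]) ⟨fun _ => hpl', fun _ => hpl⟩
  have h1 := h.sign.congr e.toEquiv he
  have h2 := (h1.unique (hasSign_plusForm n) (Or.inr rfl) (Or.inl rfl)).2
  norm_num at h2

end Cfsg.Agent.H39.Bs
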